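import Groth.Agent.AssLib.FlatFibre
import Groth.Agent.AssLib.Push
import Groth.Agent.AssPtX.Noeth
import Groth.Agent.AlgSpDec.SchDenseFacts
import Groth.Agent.H23.FinCondSch
import Groth.Agent.EtFound.NoethCard
import Groth.Agent.UnibEtale.Basic

/-!
# Flat morphisms to etale schemes over a base without embedded points
-/

set_option autoImplicit false

universe u

open CategoryTheory CategoryTheory.Limits AlgebraicGeometry Opposite TopologicalSpace Topology

namespace Groth.Agent.EtHull69

set_option backward.isDefEq.respectTransparency.types false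

variable {X E S : Scheme.{u}}

/-- a flat morphism hitting all associated points is schematically dominant -/
theorem sd_of_ass_subset_range [IsLocallyNoetherian E] (h : X ⟶ E) [Flat h]
    (hA : AssSch.Ass (Coh.structureModule E) ⊆ Set.range h.base) : IsSchemeTheoreticallyDominant h := by
  refine ⟨Scheme.IdealSheafData.ext (funext fun V => le_bot_iff.1 fun s hs => ?_)⟩
  have hs0 : h.app V.1 s = 0 := h.ideal_ker_le V hs
  refine AssLib.eq_zero_of_germ_ass (M := Coh.structureModule E) (PnCoh.isQCoh_structureModule E) V.2 s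
    fun z hz hza => ?_
  obtain ⟨x, rfl⟩ := hA hza
  have h1 : E.presheaf.germ V.1 (h.base x) hz s = 0 := by
    apply AlgSpDec.SchDenseFacts.stalkMap_injective_of_flat h x
    rw [map_zero]
    exact (Scheme.Hom.germ_stalkMap_apply h V.1 x hz s).trans ((congrArg _ hs0).trans (map_zero _))
  obtain ⟨W, hxW, iU, iV, e⟩ := E.presheaf.germ_eq _ hz hz s 0 (h1.trans (map_zero _).symm)
  exact AssLib.germ_eq_zero_of_res_eq_zero (M := Coh.structureModule E) (leOfHom iU) hxW s
    (e.trans (map_zero _))

/-- a schematically dominant flat morphism hits all associated points -/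
theorem ass_subset_range [IsLocallyNoetherian E] (h : X ⟶ E) [Flat h] [IsSchemeTheoreticallyDominant h] :
    AssSch.Ass (Coh.structureModule E) ⊆ Set.range h.base := by
  intro z hz
  by_contra hzr
  let T : E.Opens := ⟨(closure {z})ᶜ, isClosed_closure.isOpen_compl⟩
  have hr : Set.range h ⊆ (T : Set E) := by
    rintro _ ⟨x, rfl⟩ hx
    obtain ⟨x', -, hx'⟩ := Flat.generalizingMap h (specializes_iff_mem_closure.2 hx)
    exact hzr ⟨x', hx'⟩
  have hl : IsOpenImmersion.lift T.ι h (hr.trans T.range_ι.ge) ≫ T.ι = h := IsOpenImmersion.lift_fac _ _ _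
  have h1 : T.ι.ker = ⊥ := le_bot_iff.1
    ((Scheme.Hom.le_ker_comp _ T.ι).trans_eq ((congrArg Scheme.Hom.ker hl).trans h.ker_eq_bot))
  rw [← AlgSpDec.SchDenseFacts.iff_ker_eq_bot, AssPtX.isSchematicallyDense_iff] at h1
  rw [AssLib.mem_ass_structureModule_iff, AssLib.depthZero_iff] at hz
  exact h1 z hz (subset_closure rfl)

/-- associated points of an etale scheme lie over associated points -/
theorem ass_map [IsLocallyNoetherian S] (g : E ⟶ S) [Etale g] [IsLocallyNoetherian E] {z : E}
    (hz : z ∈ AssSch.Ass (Coh.structureModule E)) : g.base z ∈ AssSch.Ass (Coh.structureModule S) := by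
  rw [AssLib.mem_ass_structureModule_iff] at hz ⊢
  exact AssLib.depthZero_map g hz

/-- no embedded points goes up along etale morphisms -/
theorem noEmbedded_of_etale [IsLocallyNoetherian S] (hS : AssSch.NoEmbedded (Coh.structureModule S))
    (g : E ⟶ S) [Etale g] [IsLocallyNoetherian E] : AssSch.NoEmbedded (Coh.structureModule E) := by
  rw [AssLib.noEmbedded_iff_maximal] at hS ⊢
  intro z hz y hy
  exact EtFound.eq_of_specializes (Scheme.Etale.mk g) hy (hS _ (ass_map g hz) _ (hy.map g.continuous))

/-- geometrically unibranch local rings go up along etale morphisms -/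
theorem isGeomUnibranch_of_etale (g : E ⟶ S) [Etale g] (x : E)
    (h : CAlg2.IsGeomUnibranch (S.presheaf.stalk (g.base x))) : CAlg2.IsGeomUnibranch (E.presheaf.stalk x) := by
  obtain ⟨V, hV, hxV, -⟩ := exists_isAffineOpen_mem_and_subset (U := (⊤ : S.Opens)) (x := g.base x) trivial
  obtain ⟨U, hU, hxU, hUV⟩ := exists_isAffineOpen_mem_and_subset (U := g ⁻¹ᵁ V) (x := x) hxV
  have het := HasRingHomProperty.appLE @Etale g inferInstance ⟨V, hV⟩ ⟨U, hU⟩ hUV
  algebraize [(g.appLE V U hUV).hom]
  let p := (hV.primeIdealOf ⟨g.base x, hxV⟩).asIdeal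
  let q := (hU.primeIdealOf ⟨x, hxU⟩).asIdeal
  let := QCoh.stalkAlg (X := S) hxV
  let := QCoh.stalkAlg (X := E) hxU
  have := QCoh.isLocalization_stalk' hV hxV
  have := QCoh.isLocalization_stalk' hU hxU
  let eS : S.presheaf.stalk (g.base x) ≃+* Localization.AtPrime p :=
    (IsLocalization.algEquiv p.primeCompl _ _).toRingEquiv
  let eE : Localization.AtPrime q ≃+* E.presheaf.stalk x :=
    (IsLocalization.algEquiv q.primeCompl _ _).toRingEquiv
  exact UnibEtale.isGeomUnibranch_of_ringEquiv eE (UnibEtale.atPrime_of_etale Γ(S, V) Γ(E, U) p q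
    (AssLib.comap_primeIdealOf g hV hU hUV hxU) (UnibEtale.isGeomUnibranch_of_ringEquiv eS h)).1

theorem nilradical_isPrime_of_isGeomUnibranch {A : Type u} [CommRing A] [IsLocalRing A]
    (h : CAlg2.IsGeomUnibranch A) : (nilradical A).IsPrime :=
  (Ideal.Quotient.isDomain_iff_prime _).1 h.1.1

/-- irreducible components of an etale scheme over a geometrically unibranch one are clopen -/
theorem isClopen_component [IsLocallyNoetherian E]
    (hS : ∀ s : S, CAlg2.IsGeomUnibranch (S.presheaf.stalk s)) (g : E ⟶ S) [Etale g] {Z : Set E}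
    (hZ : Z ∈ irreducibleComponents E) : IsClopen Z :=
  ⟨isClosed_of_mem_irreducibleComponents _ hZ,
    H23.LocNoethTop.isOpen_of_pairwiseDisjoint H23.FinCondSch.hasNoetherianNhds
      (H23.FinCondSch.pairwiseDisjoint_iff.2 fun x =>
        nilradical_isPrime_of_isGeomUnibranch (isGeomUnibranch_of_etale g x (hS _))) hZ⟩

/-- closures of opens of an etale scheme over a geometrically unibranch one are open -/
theorem isOpen_closure [IsLocallyNoetherian E] [CompactSpace E]
    (hS : ∀ s : S, CAlg2.IsGeomUnibranch (S.presheaf.stalk s)) (g : E ⟶ S) [Etale g] {W : Set E}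
    (hW : IsOpen W) : IsOpen (closure W) := by
  refine isOpen_iff_mem_nhds.2 fun x hx => ?_
  let Z := irreducibleComponent x
  have hZ : IsClopen Z := isClopen_component hS g (irreducibleComponent_mem_irreducibleComponents x)
  obtain ⟨y, hyZ, hyW⟩ := mem_closure_iff.1 hx Z hZ.2 mem_irreducibleComponent
  refine Filter.mem_of_superset (hZ.2.mem_nhds mem_irreducibleComponent) ?_
  exact (subset_closure_inter_of_isPreirreducible_of_isOpen
    (isIrreducible_irreducibleComponent (x := x)).isPreirreducible hW ⟨y, hyZ, hyW⟩).trans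
      (closure_mono Set.inter_subset_right)

/-- the scheme theoretic closure of a flat morphism into an etale scheme is an open -/
theorem exists_clopen [IsLocallyNoetherian S] [CompactSpace E] [IsLocallyNoetherian E]
    (hS : ∀ s : S, CAlg2.IsGeomUnibranch (S.presheaf.stalk s)) (hemb : AssSch.NoEmbedded (Coh.structureModule S))
    (g : E ⟶ S) [Etale g] (h : X ⟶ E) [Flat h] [LocallyOfFinitePresentation h] :
    ∃ (C : E.Opens) (h' : X ⟶ C.toScheme), IsClosed (C : Set E) ∧ IsSchemeTheoreticallyDominant h' ∧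
      h' ≫ C.ι = h ∧ (C : Set E) = closure (Set.range h.base) := by
  let C : E.Opens := ⟨closure (Set.range h.base), isOpen_closure hS g h.isOpenMap.isOpen_range⟩
  have hr : Set.range h ⊆ Set.range C.ι := by
    rw [C.range_ι]
    exact subset_closure
  let h' := IsOpenImmersion.lift C.ι h hr
  have hh : h' ≫ C.ι = h := IsOpenImmersion.lift_fac _ _ _
  have : Flat h' := MorphismProperty.of_isPullback
    (IsOpenImmersion.isPullback h' (𝟙 X) C.ι h ((Category.id_comp h).trans hh.symm) (by
      rw [Scheme.Hom.opensRange_of_isIso (𝟙 X)]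
      exact top_le_iff.1 fun x _ => hr ⟨x, rfl⟩)).flip ‹Flat h›
  refine ⟨C, h', isClosed_closure, sd_of_ass_subset_range h' fun z hz => ?_, hh, rfl⟩
  have hmax := AssLib.noEmbedded_iff_maximal.1 (noEmbedded_of_etale hemb (C.ι ≫ g)) z hz
  have hz2 : C.ι.base z ∈ closure (Set.range h.base) := z.2
  let W : C.toScheme.Opens := ⟨C.ι.base ⁻¹' Set.range h.base, h.isOpenMap.isOpen_range.preimage C.ι.continuous⟩
  -- the maximal point lies in a component meeting the image
  let Z := irreducibleComponent z
  have hZ : IsClopen Z := isClopen_component (S := S) hS (C.ι ≫ g) (irreducibleComponent_mem_irreducibleComponents z)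
  obtain ⟨_, ⟨w, hw, rfl⟩, hwW⟩ := mem_closure_iff.1 hz2 (C.ι.base '' Z)
    (C.ι.isOpenEmbedding.isOpenMap _ hZ.2) ⟨z, mem_irreducibleComponent, rfl⟩
  obtain ⟨ξ, hξ, -⟩ := H23.FinCondSch.eq_closure_of_mem_irreducibleComponents
    (irreducibleComponent_mem_irreducibleComponents z)
  have hξz : ξ = z := hmax ξ (specializes_iff_mem_closure.2 (hξ ▸ mem_irreducibleComponent))
  obtain ⟨x, hx⟩ : z ∈ W := (specializes_iff_mem_closure.2 (hξz ▸ hξ ▸ hw : w ∈ closure {z})).mem_open W.2 hwW
  exact ⟨x, C.ι.isOpenEmbedding.injective ((Scheme.Hom.comp_apply h' C.ι x).symm.trans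
    ((congrArg (fun r : X ⟶ E => r.base x) hh).trans hx))⟩

end Groth.Agent.EtHull69

namespace Groth.Agent.EtHull69

set_option backward.isDefEq.respectTransparency.types false

/-- morphisms flat and locally of finite presentation over an etale scheme -/
theorem flat_lfp_of_comp_etale {X E S : Scheme.{u}} (h : X ⟶ E) (g : E ⟶ S) [Etale g] [Flat (h ≫ g)]
    [LocallyOfFinitePresentation (h ≫ g)] : Flat h ∧ LocallyOfFinitePresentation h := by
  let pr := pullback.fst (h ≫ g) g
  let s : X ⟶ pullback (h ≫ g) g := pullback.lift (𝟙 X) h (Category.id_comp _)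
  have hs : s ≫ pr = 𝟙 X := pullback.lift_fst _ _ _
  have h1 : AlgebraicGeometry.Etale pr := MorphismProperty.pullback_fst _ _ ‹AlgebraicGeometry.Etale g›
  have h2 : AlgebraicGeometry.Etale s := EtCoh.etaleMP.of_postcomp (W' := EtCoh.etaleMP) s pr h1
    (show AlgebraicGeometry.Etale (s ≫ pr) from hs.symm ▸ inferInstance)
  have h3 : Flat (pullback.snd (h ≫ g) g) := MorphismProperty.pullback_snd _ _ ‹_›
  have h4 : LocallyOfFinitePresentation (pullback.snd (h ≫ g) g) := MorphismProperty.pullback_snd _ _ ‹_›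
  rw [show h = s ≫ pullback.snd (h ≫ g) g from (pullback.lift_snd _ _ _).symm]
  exact ⟨inferInstance, inferInstance⟩

end Groth.Agent.EtHull69
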