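import Groth.Agent.EtHull69.Radicial
import Groth.Agent.EtFound.ExtZeroConstr
import Groth.Agent.Para81.PuncturedAffine
import Groth.Agent.S15997
import Groth.Agent.S2299
import Mathlib.RingTheory.KrullDimension.Basic

/-!
# Finest admissible factorizations through etale affine schemes
-/

set_option autoImplicit false
set_option linter.unusedSectionVars false

universe u

open CategoryTheory CategoryTheory.Limits AlgebraicGeometry Opposite TopologicalSpace Topology IsLocalRing

namespace Groth.Agent.EtHull69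

set_option backward.isDefEq.respectTransparency.types false

/-- the maximal points of a closed subset of a Noetherian space are finite -/
theorem finite_maximal {α : Type u} [TopologicalSpace α] [NoetherianSpace α] [QuasiSober α] [T0Space α]
    {Z : Set α} (hZ : IsClosed Z) : {z | z ∈ Z ∧ ∀ y ∈ Z, y ⤳ z → y = z}.Finite := by
  obtain ⟨T, hTf, hTc, hTi, hTu⟩ := NoetherianSpace.exists_finite_set_isClosed_irreducible hZ
  have := hTf.to_subtype
  refine (Set.finite_range fun t : T => (hTi t t.2).genericPoint).subset ?_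
  rintro z ⟨hz, hmax⟩
  obtain ⟨t, ht, hzt⟩ := Set.mem_sUnion.1 (hTu ▸ hz)
  have hg := (hTi t ht).isGenericPoint_genericPoint (hTc t ht)
  exact ⟨⟨t, ht⟩, hmax _ (hTu.symm ▸ Set.mem_sUnion.2 ⟨t, ht, hg.mem⟩) (hg.specializes hzt)⟩

/-- maximal points of a complement of an affine open inside an affine open have codimension at most one -/
theorem eq_of_specializes_of_compl_affine {E : Scheme.{u}} [IsLocallyNoetherian E] {A B : E.Opens}
    (hA : IsAffineOpen A) (hB : IsAffineOpen B) (hBA : B ≤ A) {ζ : E} (hζA : ζ ∈ A) (hζB : ζ ∉ B)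
    (hmax : ∀ y, y ⤳ ζ → y ≠ ζ → y ∈ B) {y y' : E} (hy : y ⤳ ζ) (hne : y ≠ ζ) (hy' : y' ⤳ y) : y' = y := by
  have : IsAffine A.toScheme := hA
  let O := E.presheaf.stalk ζ
  let fs := E.fromSpecStalk ζ
  have hr : Set.range fs ⊆ Set.range A.ι := by
    rw [Scheme.range_fromSpecStalk, A.range_ι]
    exact fun z hz => hz.mem_open A.2 hζA
  let l : Spec O ⟶ A.toScheme := IsOpenImmersion.lift A.ι fs hr
  have hl : l ≫ A.ι = fs := IsOpenImmersion.lift_fac _ _ _
  have hlp : ∀ p : Spec O, fs p ∈ B ↔ A.ι (l p) ∈ B := fun p => by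
    rw [← Scheme.Hom.comp_apply, hl]
  have h1 : IsAffineOpen (A.ι ⁻¹ᵁ B) := hB.preimage_of_isOpenImmersion A.ι (by rwa [A.opensRange_ι])
  have h2 := h1.preimage l
  have hP : l ⁻¹ᵁ (A.ι ⁻¹ᵁ B) = FEt.puncturedSpec O := by
    ext p
    show A.ι (l p) ∈ B ↔ p ≠ closedPoint O
    rw [← hlp]
    refine ⟨fun h e => hζB ?_, fun h => hmax _ ?_ fun e => h ?_⟩
    · rwa [e, Scheme.fromSpecStalk_closedPoint] at h
    · have : fs p ∈ Set.range fs := ⟨p, rfl⟩
      rwa [Scheme.range_fromSpecStalk] at this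
    · exact fs.isEmbedding.injective (e.trans Scheme.fromSpecStalk_closedPoint.symm)
  rw [hP] at h2
  have hdim : Ring.KrullDimLE 1 O := Ring.krullDimLE_iff.2 ((Para81.puncturedSpec_affine_iff O).1 h2)
  obtain ⟨p, rfl⟩ : y ∈ Set.range fs := by rw [Scheme.range_fromSpecStalk]; exact hy
  obtain ⟨q, rfl⟩ : y' ∈ Set.range fs := by rw [Scheme.range_fromSpecStalk]; exact hy'.trans hy
  have hqp : q.asIdeal ≤ p.asIdeal :=
    (PrimeSpectrum.le_iff_specializes q p).2 (fs.isEmbedding.isInducing.specializes_iff.1 hy')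
  rcases (Ring.krullDimLE_one_iff.1 hdim) p.asIdeal p.2 with hp | hp
  · exact congrArg fs (PrimeSpectrum.ext (le_antisymm hqp (hp.2 ⟨q.2, bot_le⟩ hqp)))
  · refine absurd ?_ hne
    have : p = closedPoint O := PrimeSpectrum.ext (IsLocalRing.eq_maximalIdeal hp)
    rw [this, Scheme.fromSpecStalk_closedPoint]

/-- a morphism of etale separated schemes bijective on the points over maximal geometric points is open -/
theorem isOpenImmersion_of_pts {E' E S : Scheme.{u}} [IsLocallyNoetherian E'] (g : E ⟶ S) [Etale g]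
    (v : E' ⟶ E) [Etale v] [IsSeparated v]
    (hpts : ∀ s : S, (∀ y, y ⤳ s → y = s) → ∃ (Ω : Type u) (_ : Field Ω) (_ : IsSepClosed Ω)
      (η : Spec (CommRingCat.of Ω) ⟶ S), η.base (default : Spec (CommRingCat.of Ω)) = s ∧
      ∀ a b : Spec (CommRingCat.of Ω) ⟶ E', a ≫ v ≫ g = η → b ≫ v ≫ g = η → a ≫ v = b ≫ v → a = b) :
    IsOpenImmersion v := by
  let P := pullback v v
  let Δ := pullback.diagonal v
  have : Surjective Δ := ⟨fun x => by
    by_contra hx
    have hD : IsOpen (Set.range Δ)ᶜ := Δ.isClosedEmbedding.isClosed_range.isOpen_compl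
    obtain ⟨p, hpx, hpmax⟩ := Groth.Agent.FibDim.exists_maximal_generization x
    have hp : p ∉ Set.range Δ := hpx.mem_open hD hx
    let gP : P ⟶ S := pullback.fst v v ≫ v ≫ g
    have : AlgebraicGeometry.Etale (pullback.fst v v) := MorphismProperty.pullback_fst _ _ ‹AlgebraicGeometry.Etale v›
    have : AlgebraicGeometry.Etale gP := inferInstance
    have hs : ∀ y, y ⤳ gP.base p → y = gP.base p := fun y hy => by
      obtain ⟨y', hy', rfl⟩ := Flat.generalizingMap gP hy
      exact congrArg gP.base (hpmax y' hy')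
    obtain ⟨Ω, _, _, η, hη, hinj⟩ := hpts _ hs
    obtain ⟨c, hc⟩ := Scheme.pointSmallEtaleFiberObjToPreimage_surjective η rfl (Scheme.Etale.mk gP) ⟨p, hη.symm⟩
    let cl : Spec (CommRingCat.of Ω) ⟶ P := c.left
    have hcη : cl ≫ gP = η := CategoryTheory.Over.w c
    have hcd : cl.base (default : Spec (CommRingCat.of Ω)) = p := congrArg Subtype.val hc
    have e := hinj (cl ≫ pullback.fst v v) (cl ≫ pullback.snd v v) (by rw [Category.assoc]; exact hcη)
      (by rw [Category.assoc, ← reassoc_of% (pullback.condition (f := v) (g := v))]; exact hcη)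
      (by rw [Category.assoc, Category.assoc, pullback.condition])
    have : (cl ≫ pullback.fst v v) ≫ Δ = cl := by
      apply pullback.hom_ext
      · rw [Category.assoc, pullback.diagonal_fst, Category.comp_id]
      · rw [Category.assoc, pullback.diagonal_snd, Category.comp_id, e]
    refine hp ⟨(cl ≫ pullback.fst v v).base (default : Spec (CommRingCat.of Ω)), ?_⟩
    rw [← hcd]
    exact (Scheme.Hom.comp_apply _ _ _).symm.trans
      (congrArg (fun r : Spec (CommRingCat.of Ω) ⟶ P => r.base (default : Spec (CommRingCat.of Ω))) this)⟩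
  have : IsIso Δ := (isIso_iff_isOpenImmersion_and_epi_base Δ).2
    ⟨inferInstance, (TopCat.epi_iff_surjective _).2 Δ.surjective⟩
  have : Mono v := ⟨fun {Z} a b h => by
    have e1 := pullback.diagonal_fst v
    have e2 := pullback.diagonal_snd v
    have h1 : pullback.fst v v = inv Δ := (IsIso.inv_eq_of_hom_inv_id e1).symm
    have h2 : pullback.snd v v = inv Δ := (IsIso.inv_eq_of_hom_inv_id e2).symm
    rw [← pullback.lift_fst a b h, h1, ← h2, pullback.lift_snd]⟩
  exact IsOpenImmersion.of_flat_of_mono v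

variable {X S : Scheme.{u}} (f : X ⟶ S)

/-- an admissible factorization: through an etale affine scheme, schematically dominant -/
structure Fac where
  E : Scheme.{u}
  g : E ⟶ S
  u : X ⟶ E
  etale : Etale g
  affine : IsAffineHom g
  sd : IsSchemeTheoreticallyDominant u
  w : u ≫ g = f

attribute [instance] Fac.etale Fac.affine Fac.sd

variable {f}

/-- `A` refines `B` -/
def Fac.Le (A B : Fac f) : Prop := ∃ v : A.E ⟶ B.E, A.u ≫ v = B.u ∧ v ≫ B.g = A.g

theorem Fac.le_trans {A B C : Fac f} (h : A.Le B) (h' : B.Le C) : A.Le C := by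
  obtain ⟨v, hv, hv'⟩ := h
  obtain ⟨w, hw, hw'⟩ := h'
  exact ⟨v ≫ w, by rw [← Category.assoc, hv, hw], by rw [Category.assoc, hw', hv']⟩

variable [AlgebraicGeometry.IsNoetherian S] [Flat f] [Surjective f] [LocallyOfFinitePresentation f] [QuasiCompact f]
  [QuasiSeparated f] (hS : ∀ s : S, CAlg2.IsGeomUnibranch (S.presheaf.stalk s))
  (hemb : AssSch.NoEmbedded (Coh.structureModule S))

theorem Fac.quasiCompact_u (A : Fac f) : QuasiCompact A.u := by
  have : QuasiCompact (A.u ≫ A.g) := by rw [A.w]; infer_instance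
  exact QuasiCompact.of_comp A.u A.g

theorem Fac.isNoetherian (A : Fac f) : AlgebraicGeometry.IsNoetherian A.E :=
  have : IsLocallyNoetherian A.E := LocallyOfFiniteType.isLocallyNoetherian A.g
  have : CompactSpace A.E := QuasiCompact.compactSpace_of_compactSpace A.g
  {}

include hS hemb in
/-- suprema -/
theorem Fac.exists_sup (A B : Fac f) : ∃ C : Fac f, C.Le A ∧ C.Le B ∧ ∀ D : Fac f, D.Le A → D.Le B → D.Le C := by
  obtain ⟨E, g, u, v₁, v₂, h1, h2, h3, h4, h5, h6, h7, h8, h9⟩ :=
    S15997.result hS hemb f A.E B.E A.g B.g A.u B.u A.w B.w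
  refine ⟨⟨E, g, u, h1, h2, h3, h4⟩, ⟨v₁, h5, h7⟩, ⟨v₂, h6, h8⟩, ?_⟩
  rintro D ⟨w₁, a1, b1⟩ ⟨w₂, a2, b2⟩
  obtain ⟨w, e, e1, -⟩ := h9 D.E D.g D.u w₁ w₂ D.etale D.affine D.sd D.w a1 a2 b1 b2
  exact ⟨w, e, (congrArg (w ≫ ·) h7.symm).trans ((Category.assoc _ _ _).symm.trans ((congrArg (· ≫ A.g) e1).trans b1))⟩

/-- every associated point is in the image -/
theorem Fac.ass_subset (A : Fac f) : AssSch.Ass (Coh.structureModule A.E) ⊆ Set.range A.u.base :=
  have := A.isNoetherian
  have : Flat (A.u ≫ A.g) := by rw [A.w]; infer_instance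
  have : Flat A.u := flat_of_comp_etale A.u A.g
  ass_subset_range A.u

/-- geometric points over maximal points lift to `X` -/
theorem Fac.exists_lift (A : Fac f) {Ω : Type u} [Field Ω] [IsSepClosed Ω] {η : Spec (CommRingCat.of Ω) ⟶ S}
    (hη : ∀ y, y ⤳ η.base (default : Spec (CommRingCat.of Ω)) → y = η.base (default : Spec (CommRingCat.of Ω)))
    (a : EtFound.PtsOver A.g η) : ∃ x : ↥(pullback f η),
      A.u.base ((pullback.fst f η).base x) = a.1.base (default : Spec (CommRingCat.of Ω)) ∧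
      (pullback.lift (pullback.fst f η ≫ A.u) (pullback.snd f η) (by rw [Category.assoc, A.w, pullback.condition])).base x =
        (pullback.lift a.1 (𝟙 _) (a.2.trans (Category.id_comp η).symm) : Spec (CommRingCat.of Ω) ⟶ pullback A.g η).base
          (default : Spec (CommRingCat.of Ω)) := by
  have := A.isNoetherian
  let d : Spec (CommRingCat.of Ω) := default
  let z := a.1.base d
  have hgz : A.g.base z = η.base d :=
    (Scheme.Hom.comp_apply _ _ _).symm.trans (congrArg (fun r : Spec (CommRingCat.of Ω) ⟶ S => r.base d) a.2)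
  have hz : ∀ y, y ⤳ z → y = z := fun y hy =>
    EtFound.eq_of_specializes (Scheme.Etale.mk A.g) hy ((hη _ (hgz ▸ hy.map A.g.continuous)).trans hgz.symm)
  obtain ⟨x₀, hx₀⟩ := A.ass_subset (AssLib.mem_ass_of_maximal hz)
  let l : pullback A.u a.1 ⟶ pullback f η := pullback.lift (pullback.fst _ _) (pullback.snd _ _)
    ((congrArg (pullback.fst A.u a.1 ≫ ·) A.w.symm).trans ((Category.assoc _ _ _).symm.trans
      ((congrArg (· ≫ A.g) pullback.condition).trans ((Category.assoc _ _ _).trans (congrArg (_ ≫ ·) a.2)))))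
  obtain ⟨p, hp1, -⟩ := Scheme.Pullback.exists_preimage_pullback (f := A.u) (g := a.1) x₀ d hx₀
  refine ⟨l.base p, ?_, ?_⟩
  · have e0 : (pullback.fst f η).base (l.base p) = x₀ := by
      rw [← Scheme.Hom.comp_apply l, pullback.lift_fst, hp1]
    rw [e0]
    exact hx₀
  · have e : l ≫ pullback.lift (pullback.fst f η ≫ A.u) (pullback.snd f η) (by rw [Category.assoc, A.w, pullback.condition]) =
        pullback.snd A.u a.1 ≫ pullback.lift a.1 (𝟙 _) (a.2.trans (Category.id_comp η).symm) := by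
      apply pullback.hom_ext
      · exact (Category.assoc _ _ _).trans ((congrArg (l ≫ ·) (pullback.lift_fst _ _ _)).trans
          ((Category.assoc _ _ _).symm.trans ((congrArg (· ≫ A.u) (pullback.lift_fst _ _ _)).trans
            (pullback.condition.trans ((congrArg (pullback.snd A.u a.1 ≫ ·) (pullback.lift_fst _ _ _)).symm.trans
              (Category.assoc _ _ _).symm)))))
      · exact (Category.assoc _ _ _).trans ((congrArg (l ≫ ·) (pullback.lift_snd _ _ _)).trans
          ((pullback.lift_snd _ _ _).trans ((Category.comp_id _).symm.trans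
            ((congrArg (pullback.snd A.u a.1 ≫ ·) (pullback.lift_snd _ _ _)).symm.trans (Category.assoc _ _ _).symm))))
    have e' := congrArg (fun r : pullback A.u a.1 ⟶ pullback A.g η => r.base p) e
    refine (Scheme.Hom.comp_apply _ _ _).symm.trans (e'.trans ((Scheme.Hom.comp_apply _ _ _).trans ?_))
    exact congrArg _ (Subsingleton.elim (α := Spec (CommRingCat.of Ω)) _ _)

/-- the geometric points over a maximal geometric point are bounded by the fibre of `X` -/
theorem Fac.card_le (A : Fac f) {Ω : Type u} [Field Ω] [IsSepClosed Ω] {η : Spec (CommRingCat.of Ω) ⟶ S}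
    (hη : ∀ y, y ⤳ η.base (default : Spec (CommRingCat.of Ω)) → y = η.base (default : Spec (CommRingCat.of Ω))) :
    Nat.card (EtFound.PtsOver A.g η) ≤ Nat.card (irreducibleComponents ↥(pullback f η)) := by
  let Y := pullback f η
  let Q := pullback A.g η
  let r : Y ⟶ Q := pullback.lift (pullback.fst f η ≫ A.u) (pullback.snd f η)
    (by rw [Category.assoc, A.w, pullback.condition])
  let σ : EtFound.PtsOver A.g η → (Spec (CommRingCat.of Ω) ⟶ Q) := fun a =>
    pullback.lift a.1 (𝟙 _) (a.2.trans (Category.id_comp η).symm)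
  let pr : Q ⟶ Spec (CommRingCat.of Ω) := pullback.snd A.g η
  have : AlgebraicGeometry.Etale pr := MorphismProperty.pullback_snd _ _ A.etale
  have hoi : ∀ a, IsOpenImmersion (σ a) := fun a => by
    have hs : σ a ≫ pr = 𝟙 _ := pullback.lift_snd _ _ _
    have : AlgebraicGeometry.Etale (σ a) := EtCoh.etaleMP.of_postcomp (W' := EtCoh.etaleMP) (σ a) pr
      (inferInstanceAs (AlgebraicGeometry.Etale pr))
      (show AlgebraicGeometry.Etale (σ a ≫ pr) from hs.symm ▸ inferInstance)
    have : Mono (σ a) := mono_of_mono_fac hs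
    exact IsOpenImmersion.of_flat_of_mono (σ a)
  have : LocallyOfFinitePresentation (pullback.snd f η) := MorphismProperty.pullback_snd _ _ ‹_›
  have : QuasiCompact (pullback.snd f η) := MorphismProperty.pullback_snd _ _ ‹_›
  have : IsLocallyNoetherian Y := LocallyOfFiniteType.isLocallyNoetherian (pullback.snd f η)
  have : CompactSpace Y := QuasiCompact.compactSpace_of_compactSpace (pullback.snd f η)
  have : AlgebraicGeometry.IsNoetherian Y := {}
  have : NoetherianSpace Y := inferInstance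
  have := (NoetherianSpace.finite_irreducibleComponents (α := Y)).to_subtype
  let O : EtFound.PtsOver A.g η → Set Y := fun a => r.base ⁻¹' Set.range (σ a).base
  have hO : ∀ a, IsOpen (O a) := fun a => by
    have := hoi a
    exact (σ a).isOpenEmbedding.isOpen_range.preimage r.continuous
  have hne : ∀ a, (O a).Nonempty := fun a => by
    obtain ⟨x, -, hx⟩ := A.exists_lift hη a
    exact ⟨x, default, hx.symm⟩
  have hd : ∀ a b, (O a ∩ O b).Nonempty → a = b := by
    rintro a b ⟨x, ⟨d, hd⟩, ⟨d', hd'⟩⟩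
    have := hoi b
    have hr : Set.range (σ a).base ⊆ Set.range (σ b).base := by
      rintro _ ⟨e, rfl⟩
      exact ⟨d', by rw [hd', ← hd, Subsingleton.elim (α := Spec (CommRingCat.of Ω)) d e]⟩
    have h1 := IsOpenImmersion.lift_fac (σ b) (σ a) hr
    have h2 : IsOpenImmersion.lift (σ b) (σ a) hr = 𝟙 _ := by
      have h3 := congrArg (· ≫ pr) h1
      simp only [Category.assoc, σ, pr, pullback.lift_snd, Category.comp_id] at h3
      exact h3
    rw [h2, Category.id_comp] at h1
    exact Subtype.ext ((pullback.lift_fst a.1 (𝟙 _) _).symm.trans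
      ((congrArg (· ≫ pullback.fst A.g η) h1.symm).trans (pullback.lift_fst b.1 (𝟙 _) _)))
  choose x hx using hne
  refine Nat.card_le_card_of_injective (fun a => (⟨irreducibleComponent (x a),
    irreducibleComponent_mem_irreducibleComponents _⟩ : irreducibleComponents Y)) fun a b h => hd a b ?_
  obtain ⟨y, -, hy, hy'⟩ := (isIrreducible_irreducibleComponent (x := x a)).isPreirreducible (O a) (O b) (hO a) (hO b)
    ⟨x a, mem_irreducibleComponent, hx a⟩ ⟨x b, by
      rw [show irreducibleComponent (x a) = irreducibleComponent (x b) from congrArg Subtype.val h]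
      exact mem_irreducibleComponent, hx b⟩
  exact ⟨y, hy, hy'⟩

include hS hemb in
/-- a class of admissible factorizations with suprema has a finest member -/
theorem exists_finest (p : Fac f → Prop) (hne : ∃ A, p A)
    (hsup : ∀ A B, p A → p B → ∀ C : Fac f, C.Le A → C.Le B →
      (∀ D : Fac f, D.Le A → D.Le B → D.Le C) → p C) :
    ∃ M, p M ∧ ∀ A, p A → M.Le A := by
  classical
  let Smax := {s : S // ∀ y, y ⤳ s → y = s}
  have : Finite Smax := ((finite_maximal (α := S) isClosed_univ).subset fun s (hs : ∀ y, y ⤳ s → y = s) =>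
    (⟨trivial, fun y _ h => hs y h⟩ : s ∈ Set.univ ∧ _)).to_subtype
  choose Ω iF iA η hη using fun s : Smax => EtFound.exists_geomPoint s.1
  letI : ∀ s, Field (Ω s) := iF
  have : ∀ s, IsAlgClosed (Ω s) := iA
  have hηm : ∀ s, ∀ y, y ⤳ (η s).base (default : Spec (CommRingCat.of (Ω s))) →
      y = (η s).base (default : Spec (CommRingCat.of (Ω s))) := fun s y hy => by
    rw [hη s] at hy ⊢
    exact s.2 y hy
  have hfin : ∀ (A : Fac f) s, Finite (EtFound.PtsOver A.g (η s)) := fun A s => EtFound.finite_ptsOver A.g (η s)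
  haveI := Fintype.ofFinite Smax
  let N : Fac f → ℕ := fun A => ∑ s : Smax, Nat.card (EtFound.PtsOver A.g (η s))
  let bd := ∑ s : Smax, Nat.card (irreducibleComponents ↥(pullback f (η s)))
  have hN : ∀ A, N A ≤ bd := fun A => Finset.sum_le_sum fun s _ => A.card_le (hηm s)
  obtain ⟨n, ⟨A₁, hA₁, rfl⟩, hn⟩ : ∃ n, (∃ A, p A ∧ N A = n) ∧ ∀ A, p A → N A ≤ n := by
    obtain ⟨A, hA⟩ := hne
    let P := fun n => ∃ A, p A ∧ N A = n
    refine ⟨Nat.findGreatest P bd, Nat.findGreatest_spec (P := P) (hN A) ⟨A, hA, rfl⟩, fun B hB =>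
      Nat.le_findGreatest (hN B) ⟨B, hB, rfl⟩⟩
  have := A₁.isNoetherian
  -- refinements are opens
  have key : ∀ (B : Fac f), p B → ∀ v : B.E ⟶ A₁.E, B.u ≫ v = A₁.u → v ≫ A₁.g = B.g →
      IsOpenImmersion v ∧ IsAffineHom v := by
    intro B hB v hv hvg
    have : AlgebraicGeometry.Etale (v ≫ A₁.g) := hvg ▸ B.etale
    have : IsAffineHom (v ≫ A₁.g) := hvg ▸ B.affine
    have : AlgebraicGeometry.Etale v := EtCoh.etaleMP.of_postcomp (W' := EtCoh.etaleMP) v A₁.g A₁.etale ‹_›
    have : IsAffineHom v := IsAffineHom.of_comp v A₁.g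
    refine ⟨?_, this⟩
    have := B.isNoetherian
    let π : ∀ s, EtFound.PtsOver B.g (η s) → EtFound.PtsOver A₁.g (η s) := fun s a =>
      ⟨a.1 ≫ v, by rw [Category.assoc, hvg]; exact a.2⟩
    have hsurj : ∀ s, Function.Surjective (π s) := by
      intro s a
      obtain ⟨x, -, hx⟩ := A₁.exists_lift (hηm s) a
      -- the point of the fibre of `B` below `x`
      let rB : pullback f (η s) ⟶ pullback B.g (η s) := pullback.lift (pullback.fst f (η s) ≫ B.u) (pullback.snd f (η s))
        (by rw [Category.assoc, B.w, pullback.condition])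
      let pr : pullback B.g (η s) ⟶ Spec (CommRingCat.of (Ω s)) := pullback.snd _ _
      have : AlgebraicGeometry.Etale pr := MorphismProperty.pullback_snd _ _ B.etale
      obtain ⟨b, hb⟩ := Scheme.pointSmallEtaleFiberObjToPreimage_surjective (𝟙 (Spec (CommRingCat.of (Ω s)))) rfl
        (Scheme.Etale.mk pr) ⟨rB.base x, Subsingleton.elim (α := Spec (CommRingCat.of (Ω s))) _ _⟩
      let bl : Spec (CommRingCat.of (Ω s)) ⟶ pullback B.g (η s) := b.left
      have hbpr : bl ≫ pr = 𝟙 _ := CategoryTheory.Over.w b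
      refine ⟨⟨bl ≫ pullback.fst _ _, by rw [Category.assoc, pullback.condition, reassoc_of% hbpr]⟩, ?_⟩
      let m : pullback B.g (η s) ⟶ pullback A₁.g (η s) := pullback.lift (pullback.fst _ _ ≫ v) (pullback.snd _ _)
        (by rw [Category.assoc, hvg, pullback.condition])
      let σ : Spec (CommRingCat.of (Ω s)) ⟶ pullback A₁.g (η s) := pullback.lift a.1 (𝟙 _) (a.2.trans (Category.id_comp _).symm)
      let prA : pullback A₁.g (η s) ⟶ Spec (CommRingCat.of (Ω s)) := pullback.snd _ _
      have : AlgebraicGeometry.Etale prA := MorphismProperty.pullback_snd _ _ A₁.etale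
      have hσ : σ ≫ prA = 𝟙 _ := pullback.lift_snd _ _ _
      have : AlgebraicGeometry.Etale σ := EtCoh.etaleMP.of_postcomp (W' := EtCoh.etaleMP) σ prA
        (inferInstanceAs (AlgebraicGeometry.Etale prA))
        (show AlgebraicGeometry.Etale (σ ≫ prA) from hσ.symm ▸ inferInstance)
      have : Mono σ := mono_of_mono_fac hσ
      have : IsOpenImmersion σ := IsOpenImmersion.of_flat_of_mono σ
      have hm : m.base (rB.base x) = σ.base (default : Spec (CommRingCat.of (Ω s))) := by
        refine Eq.trans ?_ hx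
        rw [← Scheme.Hom.comp_apply]
        refine congrArg (fun r : pullback f (η s) ⟶ pullback A₁.g (η s) => r.base x) ?_
        apply pullback.hom_ext
        · exact (Category.assoc _ _ _).trans ((congrArg (rB ≫ ·) (pullback.lift_fst _ _ _)).trans
            ((Category.assoc _ _ _).symm.trans ((congrArg (· ≫ v) (pullback.lift_fst _ _ _)).trans
              ((Category.assoc _ _ _).trans ((congrArg (pullback.fst f (η s) ≫ ·) hv).trans
                (pullback.lift_fst _ _ _).symm)))))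
        · exact (Category.assoc _ _ _).trans ((congrArg (rB ≫ ·) (pullback.lift_snd _ _ _)).trans
            ((pullback.lift_snd _ _ _).trans (pullback.lift_snd _ _ _).symm))
      have hr : Set.range (bl ≫ m).base ⊆ Set.range σ.base := by
        rintro _ ⟨e, rfl⟩
        rw [Subsingleton.elim (α := Spec (CommRingCat.of (Ω s))) e default]
        refine ⟨default, hm.symm.trans ?_⟩
        exact (congrArg m.base (congrArg Subtype.val hb).symm).trans (Scheme.Hom.comp_apply _ _ _).symm
      have h1 := IsOpenImmersion.lift_fac σ (bl ≫ m) hr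
      have h2 : IsOpenImmersion.lift σ (bl ≫ m) hr = 𝟙 _ := by
        have h3 := congrArg (· ≫ prA) h1
        simp only [Category.assoc, hσ, Category.comp_id] at h3
        rw [h3]
        simp only [m, prA, pullback.lift_snd]
        exact hbpr
      rw [h2, Category.id_comp] at h1
      refine Subtype.ext ?_
      have h4 := congrArg (· ≫ pullback.fst A₁.g (η s)) h1
      simp only [σ, m, Category.assoc, pullback.lift_fst] at h4
      show (bl ≫ pullback.fst _ _) ≫ v = a.1
      rw [Category.assoc]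
      exact h4.symm
    have hcard : ∀ s, Nat.card (EtFound.PtsOver B.g (η s)) = Nat.card (EtFound.PtsOver A₁.g (η s)) := by
      have hle : ∀ s, Nat.card (EtFound.PtsOver A₁.g (η s)) ≤ Nat.card (EtFound.PtsOver B.g (η s)) := fun s =>
        have := hfin B s
        Nat.card_le_card_of_surjective (π s) (hsurj s)
      exact fun s => ((Finset.sum_eq_sum_iff_of_le fun t _ => hle t).1
        (le_antisymm (Finset.sum_le_sum fun t _ => hle t) (hn B hB)) s (Finset.mem_univ s)).symm
    refine isOpenImmersion_of_pts A₁.g v fun t ht => ⟨Ω ⟨t, ht⟩, inferInstance, inferInstance, η ⟨t, ht⟩,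
      hη ⟨t, ht⟩, fun a b ha hb hab => ?_⟩
    have := hfin A₁ ⟨t, ht⟩
    have := hfin B ⟨t, ht⟩
    have hbij : Function.Bijective (π ⟨t, ht⟩) :=
      (Nat.bijective_iff_surjective_and_card _).2 ⟨hsurj _, hcard _⟩
    have := @hbij.1 ⟨a, by rw [← hvg]; exact ha⟩ ⟨b, by rw [← hvg]; exact hb⟩ (Subtype.ext hab)
    exact congrArg Subtype.val this
  -- the possible opens
  let Oset : Set A₁.E.Opens := {O | Set.range A₁.u.base ⊆ (O : Set A₁.E) ∧ IsAffineHom O.ι}
  have : LocallyOfFinitePresentation (A₁.u ≫ A₁.g) := by rw [A₁.w]; infer_instance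
  have : Flat (A₁.u ≫ A₁.g) := by rw [A₁.w]; infer_instance
  obtain ⟨hfl, hfp⟩ := flat_lfp_of_comp_etale A₁.u A₁.g
  have hW : IsOpen (Set.range A₁.u.base) := A₁.u.isOpenMap.isOpen_range
  let Z := (Set.range A₁.u.base)ᶜ
  let F := {z | z ∈ Z ∧ ∀ y ∈ Z, y ⤳ z → y = z}
  have hF : F.Finite := finite_maximal hW.isClosed_compl
  have hsep : ∀ O O' : A₁.E.Opens, O ∈ Oset → O' ∈ Oset → (∀ z ∈ F, z ∈ O → z ∈ O') → O ≤ O' := by
    intro O O' hO hO' h x hx
    by_contra hx'
    let T : Set A₁.E := (O : Set A₁.E) ∩ (O' : Set A₁.E)ᶜ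
    obtain ⟨A, hA, hxA, hAO⟩ := exists_isAffineOpen_mem_and_subset (U := O) hx
    have : QuasiSober ↥((O' : Set A₁.E)ᶜ) := O'.2.isClosed_compl.isClosedEmbedding_subtypeVal.quasiSober
    obtain ⟨y, hy, hymax⟩ := Groth.Agent.FibDim.exists_maximal_generization (⟨x, hx'⟩ : ↥((O' : Set A₁.E)ᶜ))
    have hyx : y.1 ⤳ x := hy.map continuous_subtype_val
    have hyA : y.1 ∈ A := hyx.mem_open A.2 hxA
    have hmaxO : ∀ z, z ⤳ y.1 → z ≠ y.1 → z ∈ O' := fun z hz hne => by_contra fun hzO =>
      hne (congrArg Subtype.val (hymax ⟨z, hzO⟩ (Topology.IsInducing.subtypeVal.specializes_iff.1 hz)))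
    have hB : IsAffineOpen (O' ⊓ A) := by
      have := hO'.2
      have h1 := (hA.preimage O'.ι).image_of_isOpenImmersion O'.ι
      rwa [Scheme.Hom.image_preimage_eq_opensRange_inf, Scheme.Opens.opensRange_ι] at h1
    have hyZ : y.1 ∈ Z := fun hyW => y.2 (hO'.1 hyW)
    have hyF : y.1 ∈ F := by
      refine ⟨hyZ, fun z hz hzy => by_contra fun hne => hz (A₁.ass_subset (AssLib.mem_ass_of_maximal fun z' hz' => ?_))⟩
      exact eq_of_specializes_of_compl_affine hA hB inf_le_right hyA (fun hy' => y.2 hy'.1)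
        (fun w hw hw' => ⟨hmaxO w hw hw', hw.mem_open A.2 hyA⟩) hzy hne hz'
    exact y.2 (h _ hyF (hAO hyA))
  have hOset : Oset.Finite := by
    refine Set.Finite.of_finite_image (f := fun O : A₁.E.Opens => F ∩ (O : Set A₁.E))
      (hF.finite_subsets.subset (by rintro _ ⟨O, -, rfl⟩; exact Set.inter_subset_left)) fun O hO O' hO' h => ?_
    exact le_antisymm (hsep O O' hO hO' fun z hz hzO => (h.le ⟨hz, hzO⟩).2)
      (hsep O' O hO' hO fun z hz hzO => (h.ge ⟨hz, hzO⟩).2)
  -- members refining `A₁`, and their opens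
  let Pset : Set A₁.E.Opens := {O | ∃ B, p B ∧ ∃ v : B.E ⟶ A₁.E, B.u ≫ v = A₁.u ∧ v ≫ A₁.g = B.g ∧ Set.range v.base = O}
  have hsub : Pset ⊆ Oset := by
    rintro O ⟨B, hB, v, hv, hvg, hr⟩
    obtain ⟨hvo, hva⟩ := key B hB v hv hvg
    refine ⟨?_, ?_⟩
    · rintro _ ⟨x, rfl⟩
      rw [← hr, ← hv]
      exact ⟨B.u.base x, (Scheme.Hom.comp_apply _ _ _).symm⟩
    · let e := IsOpenImmersion.isoOfRangeEq O.ι v (by rw [Scheme.Opens.range_ι]; exact hr.symm)
      rw [← IsOpenImmersion.isoOfRangeEq_hom_fac O.ι v (by rw [Scheme.Opens.range_ι]; exact hr.symm)]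
      have : IsAffineHom e.hom := inferInstance
      exact MorphismProperty.comp_mem _ _ _ this hva
  have hne' : Pset.Nonempty := ⟨⊤, A₁, hA₁, 𝟙 _, Category.comp_id _, Category.id_comp _, by simp⟩
  obtain ⟨O₀, hO₀⟩ := (hOset.subset hsub).exists_minimal hne'
  obtain ⟨M, hM, v₀, hv₀, hvg₀, hr₀⟩ := hO₀.prop
  refine ⟨M, hM, fun A hA => ?_⟩
  obtain ⟨C, hCM, hCA, hC⟩ := Fac.exists_sup hS hemb M A
  have hpC := hsup M A hM hA C hCM hCA hC
  obtain ⟨w, hw, hwg⟩ := hCM
  obtain ⟨hoM, -⟩ := key M hM v₀ hv₀ hvg₀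
  obtain ⟨hoC, -⟩ := key C hpC (w ≫ v₀) (by rw [← Category.assoc, hw, hv₀]) (by rw [Category.assoc, hvg₀, hwg])
  let O : A₁.E.Opens := (w ≫ v₀).opensRange
  have hle : O₀ ≤ O := hO₀.le_of_le ⟨C, hpC, w ≫ v₀, by rw [← Category.assoc, hw, hv₀],
    by rw [Category.assoc, hvg₀, hwg], rfl⟩ (fun x hx => by
      obtain ⟨c, rfl⟩ := hx
      refine hr₀.le ⟨w.base c, ?_⟩
      exact (Scheme.Hom.comp_apply _ _ _).symm)
  refine Fac.le_trans ?_ hCA
  have hr : Set.range v₀.base ⊆ Set.range (w ≫ v₀).base := hr₀.le.trans hle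
  let l := IsOpenImmersion.lift (w ≫ v₀) v₀ hr
  have hl : l ≫ w ≫ v₀ = v₀ := IsOpenImmersion.lift_fac _ _ _
  refine ⟨l, ?_, ?_⟩
  · rw [← cancel_mono (w ≫ v₀), Category.assoc, hl, hv₀, ← Category.assoc, hw, hv₀]
  · rw [← hwg, ← hvg₀, ← Category.assoc w, ← Category.assoc l, hl]

end Groth.Agent.EtHull69
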