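import Groth.Agent.EtHull69.Basic

/-!
# Schematic dominance and radicial base change
-/

set_option autoImplicit false

universe u

open CategoryTheory CategoryTheory.Limits AlgebraicGeometry Opposite TopologicalSpace Topology IsLocalRing

namespace Groth.Agent.EtHull69

set_option backward.isDefEq.respectTransparency.types false

variable {E S : Scheme.{u}}

/-- points of an etale scheme over associated points are associated -/
theorem mem_ass_of_map [IsLocallyNoetherian S] [IsLocallyNoetherian E] (g : E ⟶ S) [Etale g] (z : E)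
    (h : g.base z ∈ AssSch.Ass (Coh.structureModule S)) : z ∈ AssSch.Ass (Coh.structureModule E) := by
  rw [AssLib.mem_ass_structureModule_iff] at h ⊢
  let φ := (g.stalkMap z).hom
  let := φ.toAlgebra
  have : IsLocalHom (algebraMap (S.presheaf.stalk (g z)) (E.presheaf.stalk z)) := inferInstanceAs (IsLocalHom φ)
  have : Module.Flat (S.presheaf.stalk (g z)) (E.presheaf.stalk z) := Flat.stalkMap g _
  refine AssLib.depthZero_up h fun P hP hle => ?_
  let pP : Spec (E.presheaf.stalk z) := (⟨P, hP⟩ : PrimeSpectrum _)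
  have hy : E.fromSpecStalk z pP ⤳ z := by
    have : E.fromSpecStalk z pP ∈ Set.range (E.fromSpecStalk z) := ⟨_, rfl⟩
    rwa [Scheme.range_fromSpecStalk] at this
  have hc : Spec.map (g.stalkMap z) pP = closedPoint (S.presheaf.stalk (g z)) := PrimeSpectrum.ext
    (((maximalIdeal.isMaximal _).eq_of_le (Ideal.IsPrime.ne_top inferInstance)
      (Ideal.map_le_iff_le_comap.1 hle)).symm)
  have hgy : g.base (E.fromSpecStalk z pP) = g.base z := by
    refine (Scheme.Hom.comp_apply _ _ _).symm.trans ?_
    rw [← Scheme.SpecMap_stalkMap_fromSpecStalk, Scheme.Hom.comp_apply, hc, Scheme.fromSpecStalk_closedPoint]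
  have e := EtFound.eq_of_specializes (Scheme.Etale.mk g) hy hgy
  exact congrArg PrimeSpectrum.asIdeal
    ((E.fromSpecStalk z).isEmbedding.injective (e.trans Scheme.fromSpecStalk_closedPoint.symm))

theorem flat_of_comp_etale {X : Scheme.{u}} (h : X ⟶ E) (g : E ⟶ S) [Etale g] [Flat (h ≫ g)] : Flat h := by
  let pr := pullback.fst (h ≫ g) g
  let s : X ⟶ pullback (h ≫ g) g := pullback.lift (𝟙 X) h (Category.id_comp _)
  have hs : s ≫ pr = 𝟙 X := pullback.lift_fst _ _ _
  have h1 : AlgebraicGeometry.Etale pr := MorphismProperty.pullback_fst _ _ ‹AlgebraicGeometry.Etale g›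
  have h2 : AlgebraicGeometry.Etale s := EtCoh.etaleMP.of_postcomp (W' := EtCoh.etaleMP) s pr h1
    (show AlgebraicGeometry.Etale (s ≫ pr) from hs.symm ▸ inferInstance)
  have h3 : Flat (pullback.snd (h ≫ g) g) := MorphismProperty.pullback_snd _ _ ‹_›
  rw [show h = s ≫ pullback.snd (h ≫ g) g from (pullback.lift_snd _ _ _).symm]
  infer_instance

end Groth.Agent.EtHull69
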